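import Mathlib

/-!
An element of odd order acting on a group with central commutator involution.
-/

set_option autoImplicit false

namespace H12.Monster

variable {G : Type*} [Group G]

/-- an element of odd order fixing `x` up to a central involution fixes it -/
theorem comm_of_odd {x y c : G} {p : ℕ} (hp : Odd p) (hy : y ^ p = 1) (hc : c * c = 1)
    (hyc : y * c = c * y) (h : y * x * y⁻¹ = c * x) : y * x = x * y := by
  have key : ∀ n : ℕ, y ^ n * x * (y ^ n)⁻¹ = c ^ n * x := by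
    intro n
    induction n with
    | zero => simp
    | succ n ih =>
      rw [pow_succ', pow_succ, show y * y ^ n * x * (y * y ^ n)⁻¹
        = y * (y ^ n * x * (y ^ n)⁻¹) * y⁻¹ by group, ih,
        show y * (c ^ n * x) * y⁻¹ = (y * c ^ n * y⁻¹) * (y * x * y⁻¹) by group, h,
        ((Commute.pow_right (show Commute y c from hyc) n).eq), mul_inv_cancel_right, mul_assoc]
  have h1 := key p
  rw [hy] at h1
  obtain ⟨k, rfl⟩ := hp
  rw [pow_succ, pow_mul, sq, hc, one_pow, one_mul] at h1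
  have hc1 : c = 1 := by simpa using h1.symm
  rw [hc1, one_mul] at h
  exact mul_inv_eq_iff_eq_mul.mp h

/-- averaging over an element of odd order keeps a commutator equal to the involution -/
theorem exists_comm_of_odd {K : Subgroup G} {t x y r₀ : G} {p : ℕ} (hp : Odd p) (hy : y ^ p = 1)
    (ht : t * t = 1) (hKt : ∀ a ∈ K, a * t = t * a)
    (hK : ∀ a ∈ K, ∀ b ∈ K, a * b * a⁻¹ * b⁻¹ = 1 ∨ a * b * a⁻¹ * b⁻¹ = t)
    (hyK : ∀ a ∈ K, y * a * y⁻¹ ∈ K) (hyt : y * t = t * y) (hxy : x * y = y * x)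
    (hr : r₀ ∈ K) (hxr : x * r₀ * x⁻¹ = t * r₀) :
    ∃ r ∈ K, y * r = r * y ∧ x * r * x⁻¹ = t * r := by
  have hyK' : ∀ (n : ℕ), ∀ a ∈ K, y ^ n * a * (y ^ n)⁻¹ ∈ K := by
    intro n
    induction n with
    | zero => intro a ha; simpa using ha
    | succ n ih =>
      intro a ha
      have := hyK _ (ih a ha)
      rw [pow_succ']
      rwa [show y * y ^ n * a * (y * y ^ n)⁻¹ = y * (y ^ n * a * (y ^ n)⁻¹) * y⁻¹ by group]
  have hmem : ∀ n : ℕ, (r₀ * y) ^ n * (y ^ n)⁻¹ ∈ K := by
    intro n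
    induction n with
    | zero => simp
    | succ n ih =>
      have h1 := mul_mem ih (hyK' n r₀ hr)
      rw [pow_succ, pow_succ]
      convert h1 using 1
      group
  set r := (r₀ * y) ^ p with hrdef
  have hrK : r ∈ K := by simpa [hy] using hmem p
  refine ⟨r, hrK, ?_, ?_⟩
  · rcases hK r₀⁻¹ (inv_mem hr) r hrK with c | c
    all_goals
      have hconj : y * r * y⁻¹ = r₀⁻¹ * r * r₀ := by
        rw [show r₀⁻¹ * r * r₀ = r₀⁻¹ * r * (r₀⁻¹)⁻¹ by group, hrdef, ← conj_pow, ← conj_pow]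
        congr 1
        group
    · refine comm_of_odd hp hy (one_mul (1 : G)) (by simp) ?_
      rw [hconj, one_mul]
      rw [inv_inv] at c
      exact mul_inv_eq_one.mp c
    · refine comm_of_odd hp hy ht hyt ?_
      rw [hconj]
      rw [inv_inv] at c
      exact mul_inv_eq_iff_eq_mul.mp c
  · have hcy : Commute t (r₀ * y) := Commute.mul_right (hKt r₀ hr).symm hyt.symm
    have h1 : x * (r₀ * y) * x⁻¹ = t * (r₀ * y) := by
      calc x * (r₀ * y) * x⁻¹ = (x * r₀ * x⁻¹) * (x * y * x⁻¹) := by group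
        _ = _ := by rw [hxr, hxy, mul_inv_cancel_right, mul_assoc]
    rw [hrdef, ← conj_pow, h1, hcy.mul_pow]
    obtain ⟨k, rfl⟩ := hp
    rw [pow_succ t, pow_mul t, sq, ht, one_pow, one_mul]

/-- an element of odd order in a coset of an elementary abelian 2-group is conjugate to the
representative of the same order -/
theorem exists_conj_of_odd {A : Subgroup G} {a t : G} {p : ℕ} (hp : Odd p)
    (hA : ∀ b ∈ A, b * b = 1) (htA : ∀ b ∈ A, t * b * t⁻¹ ∈ A) (ha : a ∈ A)
    (ht : t ^ p = 1) (hat : (a * t) ^ p = 1) :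
    ∃ b ∈ A, b * (a * t) * b⁻¹ = t := by
  have hcomm : ∀ u ∈ A, ∀ v ∈ A, u * v = v * u := fun u hu v hv => by
    have h1 := hA _ (mul_mem hu hv)
    have h2 := hA u hu
    have h3 := hA v hv
    rw [← inv_eq_iff_mul_eq_one.mpr h1, mul_inv_rev, inv_eq_iff_mul_eq_one.mpr h3,
      inv_eq_iff_mul_eq_one.mpr h2]
  have htA' : ∀ (n : ℕ), ∀ b ∈ A, t ^ n * b * (t ^ n)⁻¹ ∈ A := by
    intro n
    induction n with
    | zero => intro b hb; simpa using hb
    | succ n ih =>
      intro b hb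
      have := htA _ (ih b hb)
      rw [pow_succ']
      rwa [show t * t ^ n * b * (t * t ^ n)⁻¹ = t * (t ^ n * b * (t ^ n)⁻¹) * t⁻¹ by group]
  -- partial products and their relation
  have step : ∀ k : ℕ, ∃ b ∈ A, (a * t) ^ (2 * k + 1) * (t ^ (2 * k + 1))⁻¹ = a * b * (t * b * t⁻¹) := by
    intro k
    induction k with
    | zero => exact ⟨1, one_mem _, by simp [pow_one]⟩
    | succ k ih =>
      obtain ⟨b, hb, e⟩ := ih
      set c := t ^ (2 * k + 1) * a * (t ^ (2 * k + 1))⁻¹ with hc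
      have hcA : c ∈ A := htA' _ a ha
      refine ⟨b * c, mul_mem hb hcA, ?_⟩
      calc (a * t) ^ (2 * (k + 1) + 1) * (t ^ (2 * (k + 1) + 1))⁻¹
          = ((a * t) ^ (2 * k + 1) * (t ^ (2 * k + 1))⁻¹) * c * (t * c * t⁻¹) := by
            rw [hc, show 2 * (k + 1) + 1 = 2 * k + 1 + 1 + 1 by ring, pow_succ _ (2 * k + 1 + 1),
              pow_succ _ (2 * k + 1), pow_succ' t (2 * k + 1 + 1), pow_succ' t (2 * k + 1)]
            group
        _ = a * b * (t * b * t⁻¹) * c * (t * c * t⁻¹) := by rw [e]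
        _ = a * (b * c) * ((t * b * t⁻¹) * (t * c * t⁻¹)) := by
            rw [mul_assoc (a * b), hcomm _ (htA b hb) c hcA]
            group
        _ = _ := by group
  obtain ⟨k, rfl⟩ := hp
  obtain ⟨b, hb, e⟩ := step k
  rw [hat, ht, inv_one, one_mul] at e
  refine ⟨b, hb, ?_⟩
  rw [mul_inv_eq_iff_eq_mul]
  calc b * (a * t) = a * b * t := by rw [← mul_assoc, hcomm b hb a ha]
    _ = a * b * (t * b * t⁻¹) * (t * b⁻¹) := by group
    _ = t * b := by rw [← e, one_mul, inv_eq_of_mul_eq_one_right (hA b hb)]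

end H12.Monster
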