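import Cfsg.Agent.H56.MonsterSign
import Cfsg.Agent.H12.Monster.Comm
import Cfsg.Agent.H68.ExtraComm

/-!
An element `y` of odd prime order centralising `z` and a conjugate `s` of `z` inside `Q` in a
group of Monster type: the centraliser of `y` in `Q` and the lifting of centralisers.
-/

set_option autoImplicit false

namespace H12.Monster

open Cfsg H95 H56M
open scoped commutatorElement

variable {G : Type*} [Group G] {z : G} {Q : Subgroup (CZ z)} [Q.Normal]

/-- the centraliser of `y` in `Q` -/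
abbrev QC (Q : Subgroup (CZ z)) (y : G) : Subgroup G := QG Q ⊓ Subgroup.centralizer ({y} : Set G)

theorem mem_QC {x y : G} : x ∈ QC Q y ↔ x ∈ QG Q ∧ x * y = y * x :=
  Iff.and Iff.rfl Subgroup.mem_centralizer_singleton_iff

/-- the classes fixed by a lattice automorphism -/
def fixCls (g : Co0) : Set Cls := cls '' {v | cls (g • v) = cls v}

/-- an element of odd prime order with its image -/
structure Setup (D : Data z Q) (s y : G) (g : Co0) (p : ℕ) : Prop where
  prime : p.Prime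
  odd : Odd p
  ord : orderOf y = p
  lift : D.Lift y g
  gord : g ^ p = 1
  comm : y * s = s * y
  rep : D.Rep s (eight none)
  conj : IsConj z s
  ne : s ≠ z

variable {D : Data z Q} {s y : G} {g : Co0} {p : ℕ}

namespace Setup

variable (S : Setup D s y g p)
include S

theorem ypow : y ^ p = 1 := by rw [← S.ord]; exact pow_orderOf_eq_one y

theorem y_CZ : y ∈ CZ z := S.lift.1

theorem y_ne_one : y ≠ 1 := fun h => by
  have := S.ord; rw [h, orderOf_one] at this; exact S.prime.ne_one this.symm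

omit S in
theorem eq_one_of_odd_pow (D : Data z Q) {x : G} {p : ℕ} (hp : Odd p) (hx : x ∈ QG Q)
    (h : x ^ p = 1) : x = 1 := by
  have h2 : orderOf x ∣ 2 ^ 25 := by
    rw [← D.card_QG]; exact Subgroup.orderOf_dvd_natCard _ hx
  have h1 : orderOf x ∣ Nat.gcd p (2 ^ 25) := Nat.dvd_gcd (orderOf_dvd_of_pow_eq_one h) h2
  rw [(Nat.Coprime.pow_right 25 (Nat.coprime_two_right.mpr hp)).gcd_eq_one, Nat.dvd_one] at h1
  exact orderOf_eq_one_iff.mp h1

theorem zpow_mem_QG {k : ℤ} (h : y ^ k ∈ QG Q) : y ^ k = 1 := by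
  refine eq_one_of_odd_pow D S.odd h ?_
  rw [← zpow_natCast, ← zpow_mul, mul_comm, zpow_mul, zpow_natCast, S.ypow, one_zpow]

theorem yz : y * z = z * y := mem_CZ.mp S.y_CZ

/-- centralising `y` in `Q` is fixing the class -/
theorem fix_iff {x : G} {v : leechLattice} (hx : D.Rep x v) :
    x * y = y * x ↔ cls (g • v) = cls v := by
  have h1 := hx.conj S.lift
  constructor
  · intro h
    rw [show y * x * y⁻¹ = x by rw [← h, mul_inv_cancel_right]] at h1
    exact h1.unique hx
  · intro h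
    rcases hx.same (h1.congr h) with e | e
    · exact (mul_inv_eq_iff_eq_mul.mp e).symm
    · exact (comm_of_odd S.odd S.ypow D.z_sq S.yz e).symm

theorem rep_mem_QC {x : G} {v : leechLattice} (hx : D.Rep x v) (h : cls (g • v) = cls v) :
    x ∈ QC Q y :=
  mem_QC.mpr ⟨hx.mem, (S.fix_iff hx).mpr h⟩

theorem z_mem_QC : z ∈ QC Q y := mem_QC.mpr ⟨D.z_mem, S.yz.symm⟩

theorem s_mem_QC : s ∈ QC Q y := mem_QC.mpr ⟨S.rep.mem, S.comm.symm⟩

theorem card_QC : Nat.card (QC Q y) = 2 * (fixCls g).ncard := by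
  classical
  choose v hv using fun x : QC Q y => D.exists_rep x.2.1
  let φ : QC Q y →* Multiplicative Cls := MonoidHom.mk' (fun x => Multiplicative.ofAdd (cls (v x)))
    fun a b => by
      rw [← ofAdd_add, ← cls_add]
      exact congrArg _ ((hv (a * b)).unique ((hv a).mul (hv b)))
  have hker : (φ.ker : Set (QC Q y)) = {1, ⟨z, S.z_mem_QC⟩} := by
    ext x
    constructor
    · intro hx
      rcases D.rep_zero_cases (hv x) (Multiplicative.ofAdd.injective hx) with h | h
      · exact Or.inl (Subtype.ext h)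
      · exact Or.inr (Subtype.ext h)
    · intro hx
      refine congrArg Multiplicative.ofAdd (?_ : cls (v x) = cls 0)
      rcases hx with rfl | rfl
      · exact (hv _).unique D.rep_one
      · exact (hv _).unique D.rep_z
  have hrange : (φ.range : Set (Multiplicative Cls)) = Multiplicative.ofAdd '' fixCls g := by
    ext c
    constructor
    · rintro ⟨x, rfl⟩
      exact ⟨_, ⟨v x, (S.fix_iff (hv x)).mp (mem_QC.mp x.2).2, rfl⟩, rfl⟩
    · rintro ⟨_, ⟨w, hw, rfl⟩, rfl⟩
      have hm := S.rep_mem_QC (D.rep_elt w) hw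
      exact ⟨⟨_, hm⟩, congrArg Multiplicative.ofAdd ((hv ⟨_, hm⟩).unique (D.rep_elt w))⟩
  have h := φ.ker.card_mul_index
  rw [Subgroup.index_ker] at h
  have h1 : Nat.card φ.ker = 2 := by
    show Nat.card (φ.ker : Set (QC Q y)) = 2
    rw [hker, Nat.card_coe_set_eq, Set.ncard_pair]
    exact fun h => D.z_ne_one (congrArg Subtype.val h).symm
  have h2 : Nat.card φ.range = (fixCls g).ncard := by
    show Nat.card (φ.range : Set (Multiplicative Cls)) = _
    rw [hrange, Nat.card_coe_set_eq,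
      Set.ncard_image_of_injective _ (Multiplicative.ofAdd.injective)]
  rw [h1, h2] at h
  exact h.symm

omit S in
theorem exists_noncomm (D : Data z Q) {x : G} (hx : x ∈ QG Q) (h1 : x ≠ 1) (hxz : x ≠ z) :
    ∃ r ∈ QG Q, x * r * x⁻¹ = z * r := by
  by_contra hcon
  push Not at hcon
  obtain ⟨q, hq, rfl⟩ := hx
  have : (⟨q, hq⟩ : Q) ∈ Subgroup.center Q := by
    rw [Subgroup.mem_center_iff]
    intro a
    apply Subtype.ext; apply Subtype.ext
    show ((a : CZ z) : G) * (q : G) = (q : G) * ((a : CZ z) : G)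
    have ha : ((a : CZ z) : G) ∈ QG Q := ⟨_, a.2, rfl⟩
    rcases D.comm_cases ⟨q, hq, rfl⟩ ha with c | c
    · exact (mul_inv_eq_iff_eq_mul.mp (mul_inv_eq_one.mp c)).symm
    · exact absurd (mul_inv_eq_iff_eq_mul.mp c) (hcon _ ha)
  rcases D.center_cases.mp this with h | h
  · exact h1 h
  · exact hxz h

theorem exists_noncomm_QC {x : G} (hx : x ∈ QC Q y) (h1 : x ≠ 1) (hxz : x ≠ z) :
    ∃ r ∈ QC Q y, x * r * x⁻¹ = z * r := by
  obtain ⟨r₀, hr₀, h⟩ := exists_noncomm D hx.1 h1 hxz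
  obtain ⟨r, hr, hry, h'⟩ := exists_comm_of_odd (K := QG Q) S.odd S.ypow D.z_sq
    (fun a ha => mem_CZ.mp (coe_mem_CZ ha)) (fun a ha b hb => D.comm_cases ha hb)
    (fun a ha => QG_normal S.y_CZ ha) S.yz (mem_QC.mp hx).2 hr₀ h
  exact ⟨r, mem_QC.mpr ⟨hr, hry.symm⟩, h'⟩

theorem isExtraspecial_QC {w : ℕ} (hw : 1 ≤ w) (hfix : (fixCls g).ncard = 2 ^ (2 * w)) :
    IsExtraspecial 2 (QC Q y) := by
  classical
  have hcard : Nat.card (QC Q y) = 2 ^ (2 * w + 1) := by rw [S.card_QC, hfix, pow_succ']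
  have : Finite (QC Q y) := Nat.finite_of_card_ne_zero (by rw [hcard]; positivity)
  have : Fact (Nat.Prime 2) := ⟨Nat.prime_two⟩
  set zc : QC Q y := ⟨z, S.z_mem_QC⟩
  have hcenter : ∀ x : QC Q y, x ∈ Subgroup.center (QC Q y) ↔ x = 1 ∨ x = zc := by
    intro x
    constructor
    · intro hx
      by_contra hcon
      simp only [not_or] at hcon
      obtain ⟨r, hr, h⟩ := S.exists_noncomm_QC x.2 (fun h => hcon.1 (Subtype.ext h))
        (fun h => hcon.2 (Subtype.ext h))
      have hc : r * (x : G) = x * r := congrArg Subtype.val (Subgroup.mem_center_iff.mp hx ⟨r, hr⟩)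
      rw [← hc, mul_inv_cancel_right, eq_comm, mul_eq_right] at h
      exact D.z_ne_one h
    · rintro (rfl | rfl)
      · exact one_mem _
      · exact Subgroup.mem_center_iff.mpr fun a => Subtype.ext (mem_CZ.mp (coe_mem_CZ a.2.1))
  have hcc : Nat.card (Subgroup.center (QC Q y)) = 2 := by
    show Nat.card ((Subgroup.center (QC Q y) : Subgroup (QC Q y)) : Set (QC Q y)) = 2
    rw [show ((Subgroup.center (QC Q y) : Subgroup (QC Q y)) : Set (QC Q y)) = {1, zc} from
      Set.ext fun r => hcenter r, Nat.card_coe_set_eq, Set.ncard_pair]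
    exact fun h => D.z_ne_one (congrArg Subtype.val h).symm
  have hp : IsPGroup 2 (QC Q y) := IsPGroup.of_card hcard
  have hsq : ∀ r : QC Q y, r ^ 2 ∈ Subgroup.center (QC Q y) := fun r => by
    rw [hcenter, sq]
    rcases D.sq_cases r.2.1 with e | e
    · exact Or.inl (Subtype.ext e)
    · exact Or.inr (Subtype.ext e)
  have hcle : commutator (QC Q y) ≤ Subgroup.center (QC Q y) := by
    rw [commutator_def, Subgroup.commutator_le]
    intro a _ b _
    rw [hcenter]
    rcases D.comm_cases a.2.1 b.2.1 with e | e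
    · exact Or.inl (Subtype.ext e)
    · exact Or.inr (Subtype.ext e)
  have hceq : commutator (QC Q y) = Subgroup.center (QC Q y) := by
    refine Subgroup.eq_of_le_of_card_ge hcle ?_
    rw [hcc]
    have h1 : commutator (QC Q y) ≠ ⊥ := by
      intro hb
      have h3 : Subgroup.center (QC Q y) = ⊤ := by
        rw [Subgroup.eq_top_iff']
        intro a
        rw [Subgroup.mem_center_iff]
        intro b
        have : ⁅b, a⁆ ∈ commutator (QC Q y) :=
          Subgroup.commutator_mem_commutator (Subgroup.mem_top b) (Subgroup.mem_top a)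
        rw [hb, Subgroup.mem_bot] at this
        exact commutatorElement_eq_one_iff_mul_comm.mp this
      have hc := hcc
      rw [h3, Subgroup.card_top, hcard] at hc
      have : 2 ^ 1 < 2 ^ (2 * w + 1) := Nat.pow_lt_pow_right (by norm_num) (by omega)
      omega
    have h2 := (Subgroup.one_lt_card_iff_ne_bot (commutator (QC Q y))).mpr h1
    omega
  refine ⟨⟨hp, le_antisymm ?_ ?_, hceq⟩, hcc⟩
  · exact H6.frattini_le_of_quotient (p := 2) _ hcle hsq
  · rw [← hceq]; exact H6.commutator_le_frattini hp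

/-- an element of `Q` centralising `y` moves `s` to `z s` -/
theorem exists_swap : ∃ q ∈ QC Q y, q * s * q⁻¹ = z * s := by
  have hs1 : s ≠ 1 := fun h => by
    obtain ⟨a, ha⟩ := isConj_iff.mp S.conj
    exact D.t_ne_one ha h
  obtain ⟨q, hq, h⟩ := S.exists_noncomm_QC S.s_mem_QC hs1 S.ne
  refine ⟨q, hq, ?_⟩
  rw [mul_inv_eq_iff_eq_mul] at h
  rw [mul_inv_eq_iff_eq_mul, mul_assoc, h, ← mul_assoc, ← mul_assoc, D.z_sq, one_mul]

/-- `z` is conjugate to `s` under the centraliser of `y` -/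
theorem exists_fusion : ∃ a : G, a * y = y * a ∧ a * z * a⁻¹ = s := by
  obtain ⟨c, hc⟩ := isConj_iff.mp S.conj
  have hzR : z ∈ RG Q c := D.z_mem_R64 hc S.rep S.ne
  obtain ⟨r₀, hr₀, hne⟩ : ∃ r ∈ RG Q c, z * r ≠ r * z := by
    by_contra hcon
    push Not at hcon
    rcases D.R_center_cases hc hzR hcon with h | h
    · exact D.z_ne_one h
    · exact S.ne h.symm
  have h0 : z * r₀ * z⁻¹ = s * r₀ := by
    rcases D.R_comm_cases hc hzR hr₀ with e | e
    · exact absurd (mul_inv_eq_iff_eq_mul.mp (mul_inv_eq_one.mp e)) hne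
    · exact mul_inv_eq_iff_eq_mul.mp e
  obtain ⟨r, hr, hry, h⟩ := exists_comm_of_odd (K := RG Q c) S.odd S.ypow (D.t_sq hc)
    (fun a ha => D.R_comm_t hc ha) (fun a ha b hb => D.R_comm_cases hc ha hb)
    (fun a ha => Data.R_normal hc S.comm ha) S.comm S.yz.symm hr₀ h0
  obtain ⟨q, hq, hqs⟩ := S.exists_swap
  have hrz : r * z * r⁻¹ = s * z := by
    rw [mul_inv_eq_iff_eq_mul] at h
    have hs := D.t_sq hc
    calc r * z * r⁻¹ = s * s * (r * z) * r⁻¹ := by rw [hs, one_mul]
      _ = s * (s * r * z) * r⁻¹ := by group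
      _ = s * (z * r) * r⁻¹ := by rw [h]
      _ = s * z := by group
  refine ⟨q * r, ?_, ?_⟩
  · rw [mul_assoc, ← hry, ← mul_assoc, (mem_QC.mp hq).2, mul_assoc]
  · calc q * r * z * (q * r)⁻¹ = q * (r * z * r⁻¹) * q⁻¹ := by group
      _ = (q * s * q⁻¹) * (q * z * q⁻¹) := by rw [hrz]; group
      _ = s := by
        rw [hqs, ← D.commute_z (coe_mem_CZ hq.1), mul_inv_cancel_right,
          D.commute_z (coe_mem_CZ S.rep.mem), mul_assoc, D.z_sq, mul_one]

/-- an element centralising `y` has image centralising `g` -/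
theorem commute_of_lift {h : G} {a : Co0} (hl : D.Lift h a) (hhy : h * y = y * h) :
    a * g = g * a := by
  have h1 : D.Lift y (a * g * a⁻¹) := by
    have := (hl.mul S.lift).mul hl.inv
    rwa [hhy, mul_inv_cancel_right] at this
  rcases S.lift.unique h1 with e | e
  · exact mul_inv_eq_iff_eq_mul.mp e
  · exfalso
    have h2 : (a * g * a⁻¹) ^ p = 1 := by rw [conj_pow, S.gord]; group
    have hcn : Commute g negOne := Subgroup.mem_center_iff.mp negOne_mem_center g
    obtain ⟨k, hk⟩ := S.odd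
    rw [e, hcn.mul_pow, S.gord, one_mul, hk, pow_succ, pow_mul, sq, negOne_mul_self,
      one_pow, one_mul] at h2
    exact negOne_ne_one h2

/-- automorphisms centralising `g` are realised in the centraliser of `y` -/
theorem exists_lift_comm {a : Co0} (ha : a * g = g * a) :
    ∃ h, D.Lift h a ∧ h * y = y * h := by
  obtain ⟨h₀, hl⟩ := D.exists_lift a
  set y' := h₀ * y * h₀⁻¹ with hy'
  have hl' : D.Lift y' g := by
    have := (hl.mul S.lift).mul hl.inv
    rwa [ha, mul_inv_cancel_right] at this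
  have hq : y' * y⁻¹ ∈ QG Q := D.lift_one_iff.mp (by
    simpa using hl'.mul S.lift.inv)
  have hzC : z ∈ CZ z := mem_CZ.mpr rfl
  set Z0 : Subgroup (CZ z) := Subgroup.zpowers ⟨z, hzC⟩ with hZ0
  have : Z0.Normal := ⟨fun n hn c => by
    obtain ⟨k, rfl⟩ := hn
    have hc : Commute c (⟨z, hzC⟩ : CZ z) := Subtype.ext (mem_CZ.mp c.2)
    rw [(hc.zpow_right k).eq, mul_inv_cancel_right]
    exact ⟨k, rfl⟩⟩
  let π := QuotientGroup.mk' Z0
  have hy'C : y' ∈ CZ z := hl'.1
  have hA : ∀ b ∈ Q.map π, b * b = 1 := by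
    rintro _ ⟨q, hq, rfl⟩
    rw [← map_mul, ← MonoidHom.mem_ker, QuotientGroup.ker_mk']
    rcases D.sq_cases (⟨q, hq, rfl⟩ : (q : G) ∈ QG Q) with e | e
    · rw [show q * q = 1 from Subtype.ext e]; exact one_mem _
    · rw [show q * q = ⟨z, hzC⟩ from Subtype.ext e]; exact Subgroup.mem_zpowers _
  have htA : ∀ b ∈ Q.map π, π ⟨y, S.y_CZ⟩ * b * (π ⟨y, S.y_CZ⟩)⁻¹ ∈ Q.map π := by
    rintro _ ⟨q, hq, rfl⟩
    exact ⟨_, (inferInstance : Q.Normal).conj_mem q hq ⟨y, S.y_CZ⟩, by
      rw [map_mul, map_mul, map_inv]⟩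
  have haA : π ⟨y' * y⁻¹, coe_mem_CZ hq⟩ ∈ Q.map π := by
    obtain ⟨q, hqQ, hqe⟩ := hq
    exact ⟨q, hqQ, congrArg π (Subtype.ext hqe)⟩
  have htp : π ⟨y, S.y_CZ⟩ ^ p = 1 := by
    rw [← map_pow]
    exact (congrArg π (Subtype.ext S.ypow)).trans (map_one π)
  have hatp : (π ⟨y' * y⁻¹, coe_mem_CZ hq⟩ * π ⟨y, S.y_CZ⟩) ^ p = 1 := by
    rw [← map_mul, ← map_pow]
    refine (congrArg π (Subtype.ext ?_)).trans (map_one π)
    show (y' * y⁻¹ * y) ^ p = 1
    rw [inv_mul_cancel_right, hy', conj_pow, S.ypow]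
    group
  obtain ⟨b, hb, hbe⟩ := exists_conj_of_odd S.odd hA htA haA htp hatp
  obtain ⟨b, hbQ, rfl⟩ := hb
  rw [← map_mul, ← map_inv, ← map_mul, ← map_mul] at hbe
  have hcoset := QuotientGroup.eq.mp hbe.symm
  obtain ⟨k, hk⟩ := hcoset
  have he : (b : G) * y' * (b : G)⁻¹ = y * z ^ k := by
    have := congrArg Subtype.val hk
    simp only [Subgroup.coe_mul, InvMemClass.coe_inv, SubgroupClass.coe_zpow] at this
    rw [this]; group
  have hk1 : z ^ k = 1 := by
    refine eq_one_of_odd_pow D S.odd (zpow_mem D.z_mem k) ?_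
    have h1 : (b * y' * (b : G)⁻¹) ^ p = 1 := by
      rw [conj_pow, hy', conj_pow, S.ypow]; group
    rwa [he, ((show Commute y z from S.yz).zpow_right k).mul_pow, S.ypow, one_mul] at h1
  rw [hk1, mul_one] at he
  refine ⟨b * h₀, ?_, ?_⟩
  · have := (D.lift_one_iff.mpr (⟨b, hbQ, rfl⟩ : (b : G) ∈ QG Q)).mul hl
    rwa [one_mul] at this
  · refine mul_inv_eq_iff_eq_mul.mp (Eq.trans ?_ he)
    rw [hy']
    group

/-- and centralising `s` if the frame is fixed -/
theorem exists_lift_comm_fix {a : Co0} (ha : a * g = g * a)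
    (hfix : cls (a • eight none) = cls (eight none)) :
    ∃ h, D.Lift h a ∧ h * y = y * h ∧ h * s = s * h := by
  obtain ⟨h, hl, hhy⟩ := S.exists_lift_comm ha
  rcases (S.rep.conj hl).congr hfix |>.same S.rep with e | e
  · exact ⟨h, hl, hhy, (eq_mul_inv_iff_mul_eq.mp e).symm⟩
  · obtain ⟨q, hq, hqs⟩ := S.exists_swap
    refine ⟨q * h, ?_, ?_, ?_⟩
    · have := (D.lift_one_iff.mpr hq.1).mul hl
      rwa [one_mul] at this
    · rw [mul_assoc, hhy, ← mul_assoc, (mem_QC.mp hq).2, mul_assoc]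
    · have hqz : q * z * q⁻¹ = z := by
        rw [← D.commute_z (coe_mem_CZ hq.1), mul_inv_cancel_right]
      have h2 : h * s * h⁻¹ = z * s := by
        calc h * s * h⁻¹ = (z * z) * (h * s * h⁻¹) := by rw [D.z_sq, one_mul]
          _ = z * (z * (h * s * h⁻¹)) := by group
          _ = z * s := by rw [← e]
      refine mul_inv_eq_iff_eq_mul.mp ?_
      calc q * h * s * (q * h)⁻¹ = q * (h * s * h⁻¹) * q⁻¹ := by group
        _ = (q * z * q⁻¹) * (q * s * q⁻¹) := by rw [h2]; group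
        _ = s := by rw [hqz, hqs, ← mul_assoc, D.z_sq, one_mul]

end Setup

end H12.Monster
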