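import Cfsg.Agent.H12.Monster.Coprime
import Cfsg.Agent.H76.CharPFStar

/-!
The extraspecial centraliser setting in `C(y) / ⟨y⟩` for an element `y` of odd prime order.
-/

set_option autoImplicit false

namespace H12.Monster

open Cfsg H95 H56M

universe u v

variable {G : Type u} [Group G] [Finite G] {z : G} {Q : Subgroup (CZ z)} [Q.Normal]

/-- the centraliser of the group generated by `y` -/
abbrev CY (y : G) : Subgroup G := Subgroup.centralizer ((Subgroup.zpowers y : Subgroup G) : Set G)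

theorem mem_CY {y x : G} : x ∈ CY y ↔ x * y = y * x := by
  constructor
  · intro h; exact (Subgroup.mem_centralizer_iff.mp h y (Subgroup.mem_zpowers y)).symm
  · intro h
    refine Subgroup.mem_centralizer_iff.mpr ?_
    rintro _ ⟨k, rfl⟩
    exact ((show Commute x y from h).zpow_right k).symm.eq

/-- the subgroup generated by `y` inside its centraliser -/
abbrev YN (y : G) : Subgroup (CY y) := (Subgroup.zpowers y).subgroupOf (CY y)

variable {D : Data z Q} {s y : G} {g : Co0} {p : ℕ}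

/-- the setting in the quotient of the centraliser -/
theorem Setup.setting (S : Setup D s y g p) {w : ℕ} (hw : 1 ≤ w)
    (hfix : (fixCls g).ncard = 2 ^ (2 * w)) {P : Type v} [Group P]
    (β : Subgroup.centralizer ({g} : Set Co0) →* P) (hsurj : Function.Surjective β)
    (hker : ∀ a, β a = 1 ↔ ∃ i : ℕ, (a : Co0) = g ^ i ∨ (a : Co0) = g ^ i * negOne)
    (hact : ∀ a : Subgroup.centralizer ({g} : Set Co0),
      (∀ v, cls (g • v) = cls v → cls ((a : Co0) • v) = cls v) → β a = 1)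
    (hP : ∀ T : Subgroup P, T.Normal → IsPGroup 2 T → T = ⊥) [(YN y).Normal] :
    ∃ (Z : (CY y) ⧸ YN y) (R : Subgroup (CZ Z)) (_ : R.Normal),
      IsExtraspecialCentralizerSetting Z R w ∧ Nonempty ((CZ Z) ⧸ R ≃* P) ∧
      (∀ x : CY y, (x : G) = z → (x : (CY y) ⧸ YN y) = Z) ∧
      ∀ c : CZ Z, c ∈ R ↔ ∃ x : CY y, (x : G) ∈ QC Q y ∧ (x : (CY y) ⧸ YN y) = c := by
  classical
  have hzy : z * y = y * z := S.yz.symm
  set zC : CY y := ⟨z, mem_CY.mpr hzy⟩ with hzC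
  let π : CY y →* (CY y) ⧸ YN y := QuotientGroup.mk' (YN y)
  set Z : (CY y) ⧸ YN y := π zC with hZdef
  -- membership of powers
  have hYQ : ∀ {x : G}, x ∈ Subgroup.zpowers y → x ∈ QG Q → x = 1 := by
    rintro _ ⟨k, rfl⟩ hk; exact S.zpow_mem_QG hk
  have hπ1 : ∀ x : CY y, π x = 1 ↔ (x : G) ∈ Subgroup.zpowers y := fun x => by
    rw [← MonoidHom.mem_ker, QuotientGroup.ker_mk', Subgroup.mem_subgroupOf]
  -- the centraliser of the image of `z`
  let P0 : Subgroup (CY y) := (CZ z).subgroupOf (CY y)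
  have hP0 : ∀ x : CY y, π x ∈ CZ Z ↔ x ∈ P0 := by
    intro x
    rw [mem_CZ, hZdef, ← map_mul, ← map_mul, Subgroup.mem_subgroupOf, mem_CZ]
    constructor
    · intro h
      have h1 : π ((zC * x)⁻¹ * (x * zC)) = 1 := by rw [map_mul, map_inv, h, inv_mul_cancel]
      obtain ⟨k, hk⟩ := (hπ1 _).mp h1
      have hk' : (x : G)⁻¹ * z⁻¹ * ((x : G) * z) = y ^ k := by
        simpa [hzC, mul_inv_rev] using hk.symm
      have hxz : (x : G) * z * (x : G)⁻¹ = z * y ^ k := by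
        have hxy : Commute (x : G) (y ^ k) := (show Commute (x : G) y from mem_CY.mp x.2).zpow_right k
        calc (x : G) * z * (x : G)⁻¹
            = z * ((x : G) * ((x : G)⁻¹ * z⁻¹ * ((x : G) * z)) * (x : G)⁻¹) := by group
          _ = z * y ^ k := by rw [hk', hxy.eq, mul_inv_cancel_right]
      have hyk : y ^ k = 1 := by
        have h2 : (z * y ^ k) * (z * y ^ k) = 1 := by
          rw [← hxz, show (x : G) * z * (x : G)⁻¹ * ((x : G) * z * (x : G)⁻¹)
            = (x : G) * (z * z) * (x : G)⁻¹ by group, D.z_sq]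
          group
        have hc : Commute z (y ^ k) := (show Commute z y from hzy).zpow_right k
        rw [← sq, hc.mul_pow, sq, D.z_sq, one_mul] at h2
        have h3 : (y ^ k) ^ p = 1 := by
          rw [← zpow_natCast, ← zpow_mul, mul_comm, zpow_mul, zpow_natCast, S.ypow, one_zpow]
        obtain ⟨m, hm⟩ := S.odd
        rwa [hm, pow_succ, pow_mul, h2, one_pow, one_mul] at h3
      rw [hyk, mul_one] at hxz
      exact mul_inv_eq_iff_eq_mul.mp hxz
    · intro h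
      exact congrArg π (Subtype.ext h)
  let ρ : P0 →* CZ Z := (π.comp P0.subtype).codRestrict (CZ Z) fun x => (hP0 x.1).mpr x.2
  have hρs : Function.Surjective ρ := by
    rintro ⟨c, hc⟩
    obtain ⟨x, rfl⟩ := QuotientGroup.mk'_surjective (YN y) c
    exact ⟨⟨x, (hP0 x).mp hc⟩, rfl⟩
  have hρ1 : ∀ x : P0, ρ x = 1 ↔ ((x : CY y) : G) ∈ Subgroup.zpowers y := fun x =>
    ⟨fun h => (hπ1 _).mp (congrArg Subtype.val h), fun h => Subtype.ext ((hπ1 _).mpr h)⟩
  -- the map onto `P`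
  have hex : ∀ x : P0, ∃ a : Subgroup.centralizer ({g} : Set Co0),
      D.Lift ((x : CY y) : G) a := fun x => by
    obtain ⟨a, ha⟩ := D.exists_lift_of_mem (h := ((x : CY y) : G)) x.2
    exact ⟨⟨a, Subgroup.mem_centralizer_singleton_iff.mpr
      (S.commute_of_lift ha (mem_CY.mp (x : CY y).2))⟩, ha⟩
  choose lf hlf using hex
  have hneg : negOne ∈ Subgroup.centralizer ({g} : Set Co0) :=
    Subgroup.mem_centralizer_singleton_iff.mpr (Subgroup.mem_center_iff.mp negOne_mem_center g).symm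
  have hβn : β ⟨negOne, hneg⟩ = 1 := (hker _).mpr ⟨0, Or.inr (by simp)⟩
  have hβeq : ∀ {h : G} {a b : Subgroup.centralizer ({g} : Set Co0)},
      D.Lift h a → D.Lift h b → β a = β b := by
    intro h a b ha hb
    rcases ha.unique hb with e | e
    · rw [show b = a from Subtype.ext e]
    · rw [show b = a * ⟨negOne, hneg⟩ from Subtype.ext e, map_mul, hβn, mul_one]
  let χ : P0 →* P := MonoidHom.mk' (fun x => β (lf x)) fun a b => by
    rw [← map_mul]
    exact hβeq (hlf (a * b)) ((hlf a).mul (hlf b))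
  have hχ : ∀ (x : P0) (a : Subgroup.centralizer ({g} : Set Co0)),
      D.Lift ((x : CY y) : G) a → χ x = β a := fun x a ha => hβeq (hlf x) ha
  have hgC : g ∈ Subgroup.centralizer ({g} : Set Co0) :=
    Subgroup.mem_centralizer_singleton_iff.mpr rfl
  have hlpow : ∀ i : ℕ, D.Lift (y ^ i) (g ^ i) := fun i => by
    induction i with
    | zero => simpa using D.lift_one_iff.mpr (one_mem _)
    | succ i ih => rw [pow_succ, pow_succ]; exact ih.mul S.lift
  have hyP : ∀ i : ℕ, ∀ (x : P0), ((x : CY y) : G) = y ^ i → χ x = 1 := by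
    intro i x hx
    rw [hχ x ⟨g ^ i, pow_mem hgC i⟩ (hx ▸ hlpow i)]
    exact (hker _).mpr ⟨i, Or.inl rfl⟩
  have hle : ρ.ker ≤ χ.ker := by
    intro x hx
    rw [MonoidHom.mem_ker] at hx ⊢
    obtain ⟨i, hi⟩ := (mem_zpowers_iff_mem_range_orderOf.mp ((hρ1 x).mp hx)) |>
      Finset.mem_image.mp
    exact hyP i x hi.2.symm
  let χ' : CZ Z →* P := ρ.liftOfSurjective hρs ⟨χ, hle⟩
  have hχ' : ∀ x, χ' (ρ x) = χ x := fun x => MonoidHom.liftOfRightInverse_comp_apply ρ _ _ _ x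
  have hχ's : Function.Surjective χ' := by
    intro c
    obtain ⟨a, rfl⟩ := hsurj c
    obtain ⟨h, hl, hhy⟩ := S.exists_lift_comm (Subgroup.mem_centralizer_singleton_iff.mp a.2)
    exact ⟨ρ ⟨⟨h, mem_CY.mpr hhy⟩, hl.1⟩, by rw [hχ']; exact hχ _ a hl⟩
  set R : Subgroup (CZ Z) := χ'.ker with hRdef
  -- the copy of `C_Q(y)`
  have hQP : ∀ x : G, x ∈ QC Q y → x ∈ CY y ∧ x ∈ CZ z := fun x hx =>
    ⟨mem_CY.mpr (mem_QC.mp hx).2, coe_mem_CZ hx.1⟩
  let σ : QC Q y →* CZ Z := ρ.comp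
    { toFun := fun x => ⟨⟨x, (hQP x x.2).1⟩, (hQP x x.2).2⟩
      map_one' := rfl
      map_mul' := fun _ _ => rfl }
  have hσinj : Function.Injective σ := by
    rw [injective_iff_map_eq_one]
    intro x hx
    exact Subtype.ext (hYQ ((hρ1 _).mp hx) x.2.1)
  have hσR : σ.range = R := by
    ext c
    constructor
    · rintro ⟨x, rfl⟩
      rw [hRdef, MonoidHom.mem_ker]
      show χ' (ρ _) = 1
      rw [hχ', hχ _ 1 (D.lift_one_iff.mpr x.2.1), map_one]
    · intro hc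
      obtain ⟨x, rfl⟩ := hρs c
      rw [hRdef, MonoidHom.mem_ker, hχ'] at hc
      obtain ⟨a, ha⟩ : ∃ a : Subgroup.centralizer ({g} : Set Co0), a = lf x := ⟨_, rfl⟩
      obtain ⟨i, hi⟩ := (hker (lf x)).mp hc
      have hl : D.Lift (((x : CY y) : G) * (y ^ i)⁻¹) 1 := by
        have h1 : D.Lift ((x : CY y) : G) (g ^ i) := by
          rcases hi with e | e
          · exact e ▸ hlf x
          · exact D.lift_negOne_iff.mp (e ▸ hlf x)
        have h2 := h1.mul (hlpow i).inv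
        rwa [mul_inv_cancel] at h2
      have hyi : y ^ i ∈ CY y := mem_CY.mpr ((Commute.refl y).pow_left i).eq
      have hq : ((x : CY y) : G) * (y ^ i)⁻¹ ∈ QC Q y :=
        mem_QC.mpr ⟨D.lift_one_iff.mp hl,
          mem_CY.mp (mul_mem (x : CY y).2 (inv_mem hyi))⟩
      refine ⟨⟨_, hq⟩, Subtype.ext ?_⟩
      show π _ = π (x : CY y)
      refine (QuotientGroup.eq_iff_div_mem).mpr ?_
      rw [Subgroup.mem_subgroupOf]
      show ((x : CY y) : G) * (y ^ i)⁻¹ / ((x : CY y) : G) ∈ Subgroup.zpowers y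
      have hc2 : Commute ((x : CY y) : G) (y ^ i)⁻¹ :=
        ((show Commute ((x : CY y) : G) y from mem_CY.mp (x : CY y).2).pow_right i).inv_right
      rw [hc2.eq, mul_div_assoc, div_self', mul_one]
      exact inv_mem (Subgroup.npow_mem_zpowers y i)
  have e : QC Q y ≃* R := (MonoidHom.ofInjective hσinj).trans (MulEquiv.subgroupCongr hσR)
  have hext : IsExtraspecial 2 R := H68.isExtraspecial_of_equiv e (S.isExtraspecial_QC hw hfix)
  have hcardR : Nat.card R = 2 ^ (2 * w + 1) := by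
    rw [← Nat.card_congr e.toEquiv, S.card_QC, hfix, pow_succ']
  have : Fact (Nat.Prime 2) := ⟨Nat.prime_two⟩
  have hRp : IsPGroup 2 R := IsPGroup.of_card hcardR
  have hRn : R.Normal := MonoidHom.normal_ker χ'
  -- self-centralising
  have hcentR : Subgroup.centralizer (R : Set (CZ Z)) ≤ R := by
    intro d hd
    obtain ⟨h, rfl⟩ := hρs d
    rw [hRdef, MonoidHom.mem_ker, hχ']
    refine (hχ h _ (hlf h)).trans (hact _ fun v hv => ?_)
    have hq : D.elt v ∈ QC Q y := S.rep_mem_QC (D.rep_elt v) hv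
    have hc := Subgroup.mem_centralizer_iff.mp hd (σ ⟨_, hq⟩) (hσR ▸ ⟨_, rfl⟩ : σ ⟨_, hq⟩ ∈ R)
    have h1 : ρ (h * ⟨⟨D.elt v, (hQP _ hq).1⟩, (hQP _ hq).2⟩ * h⁻¹ *
        (⟨⟨D.elt v, (hQP _ hq).1⟩, (hQP _ hq).2⟩ : P0)⁻¹) = 1 := by
      rw [map_mul, map_mul, map_mul, map_inv, map_inv]
      show ρ h * σ ⟨_, hq⟩ * (ρ h)⁻¹ * (σ ⟨_, hq⟩)⁻¹ = 1
      rw [← hc]
      group
    have h2 := (hρ1 _).mp h1
    have h3 : ((h : CY y) : G) * D.elt v * ((h : CY y) : G)⁻¹ * (D.elt v)⁻¹ = 1 :=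
      hYQ h2 (mul_mem (QG_normal h.2 (D.rep_elt v).mem) (inv_mem (D.rep_elt v).mem))
    have h4 := (D.rep_elt v).conj (hlf h)
    rw [mul_inv_eq_one.mp h3] at h4
    exact h4.unique (D.rep_elt v)
  have hcore : pCore 2 (CZ Z) = R := by
    refine le_antisymm ?_ (le_sSup ⟨hRn, hRp⟩)
    have hOn : (pCore 2 (CZ Z)).Normal := H1.pCore_normal' 2 (CZ Z)
    have hOp : IsPGroup 2 (pCore 2 (CZ Z)) := H1.isPGroup_pCore 2 (CZ Z)
    have hb := hP ((pCore 2 (CZ Z)).map χ') (hOn.map χ' hχ's) (hOp.map χ')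
    intro d hd
    rw [hRdef, MonoidHom.mem_ker]
    have : χ' d ∈ (pCore 2 (CZ Z)).map χ' := ⟨d, hd, rfl⟩
    rwa [hb, Subgroup.mem_bot] at this
  have hZne : Z ≠ 1 := fun h => D.z_ne_one (hYQ ((hπ1 _).mp h) D.z_mem)
  have hZsq : Z ^ 2 = 1 := by
    rw [hZdef, ← map_pow]
    exact (congrArg π (Subtype.ext (by rw [sq]; exact D.z_sq))).trans (map_one π)
  refine ⟨Z, R, hRn, ⟨orderOf_eq_prime hZsq hZne, ?_, hext, hcardR, ?_⟩, ?_, ?_, ?_⟩
  · rw [H76.fStar_eq_pCore_iff.mpr (by rw [hcore]; exact hcentR), hcore]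
  · obtain ⟨a, hay, has⟩ := S.exists_fusion
    have hsm := S.s_mem_QC
    have ea : π ⟨a, mem_CY.mpr hay⟩ * Z * (π ⟨a, mem_CY.mpr hay⟩)⁻¹
        = ((σ ⟨s, hsm⟩ : CZ Z) : (CY y) ⧸ YN y) := by
      show _ = π ⟨s, (hQP s hsm).1⟩
      rw [hZdef, ← map_inv, ← map_mul, ← map_mul]
      exact congrArg π (Subtype.ext has)
    refine ⟨π ⟨a, mem_CY.mpr hay⟩, ⟨ea.symm ▸ (σ ⟨s, hsm⟩).2, ?_⟩, ?_⟩
    · have hr : σ ⟨s, hsm⟩ ∈ R := hσR ▸ ⟨_, rfl⟩
      convert hr using 1
      exact Subtype.ext ea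
    · intro hh
      have h1 : π ((zC)⁻¹ * ⟨s, (hQP s hsm).1⟩) = 1 := by
        rw [map_mul, map_inv, ← hZdef]
        show Z⁻¹ * ((σ ⟨s, hsm⟩ : CZ Z) : (CY y) ⧸ YN y) = 1
        rw [← ea, hh, inv_mul_cancel]
      have h2 : z⁻¹ * s = 1 := hYQ ((hπ1 _).mp h1) (mul_mem (inv_mem D.z_mem) S.rep.mem)
      exact S.ne (inv_mul_eq_one.mp h2).symm
  · exact ⟨QuotientGroup.quotientKerEquivOfSurjective χ' hχ's⟩
  · intro x hx
    exact congrArg π (Subtype.ext hx)
  · intro c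
    rw [← hσR]
    constructor
    · rintro ⟨x, rfl⟩
      exact ⟨⟨x, (hQP x x.2).1⟩, x.2, rfl⟩
    · rintro ⟨x, hx, hc⟩
      exact ⟨⟨x, hx⟩, Subtype.ext hc⟩

end H12.Monster
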