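import Cfsg.Agent.H12.Monster.Setting
import Cfsg.Agent.H95.ModelFix
import Cfsg.Agent.H90.Group

/-!
An element of odd prime order of `C(z, s)` in a group of Monster type has, after a change of the
identification, a permutation of the Mathieu group as its image.
-/

set_option autoImplicit false

namespace H12.Monster

open Cfsg H95 H56M
open scoped Pointwise

variable {G : Type*} [Group G] {z : G} {Q : Subgroup (CZ z)} [Q.Normal]

theorem frame_permHom (σ : M24) :
    cls (H95.permHom σ • eight none) = cls (eight none) :=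
  fix_frame_mono σ.2 H95.empty_supp

theorem lift_twist {D : Data z Q} {g₀ a : Co0} {h : G} :
    (D.twist g₀).Lift h a ↔ D.Lift h (g₀ * a * g₀⁻¹) := by
  unfold Data.Lift
  refine exists_congr fun hh => ?_
  show (QuotientGroup.mk a : Spor.Co1) = MulAut.conj ((QuotientGroup.mk g₀ : Spor.Co1))⁻¹ (D.e (QuotientGroup.mk ⟨h, hh⟩)) ↔ _
  rw [QuotientGroup.mk_mul, QuotientGroup.mk_mul, QuotientGroup.mk_inv, MulAut.conj_apply,
    inv_inv, eq_comm, mul_inv_eq_iff_eq_mul]
  constructor
  · intro h
    rw [← h]; group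
  · intro h
    rw [mul_assoc, ← h]; group

theorem mem_L {s x : G} :
    x ∈ Subgroup.centralizer ({z, s} : Set G) ↔ x * z = z * x ∧ x * s = s * x := by
  rw [Subgroup.mem_centralizer_iff]
  constructor
  · intro h; exact ⟨(h z (by simp)).symm, (h s (by simp)).symm⟩
  · rintro ⟨h1, h2⟩ a (rfl | rfl)
    · exact h1.symm
    · exact h2.symm

theorem sgn_pow_coset {a t : Spor.Co1} (ha : a ∈ sgn.range)
    (ht : t ∈ sgn.range ⊔ H56M.permHom.range) (n : ℕ) :
    (a * t) ^ n * (t ^ n)⁻¹ ∈ sgn.range := by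
  induction n with
  | zero => simp
  | succ n ih =>
    rw [pow_succ, pow_succ]
    convert mul_mem ih (sgn_normal (pow_mem ht n) ha) using 1
    group

/-- after a change of identification the image is a permutation of the same order -/
theorem exists_perm {D : Data z Q} {s y : G} {p : ℕ} (hp : p.Prime) (hodd : Odd p)
    (hord : orderOf y = p) (hyz : y * z = z * y) (hys : y * s = s * y)
    (hrep : D.Rep s (eight none)) (hconj : IsConj z s) (hne : s ≠ z) :
    ∃ (D' : Data z Q) (σ : M24), orderOf σ = p ∧ Setup D' s y (H95.permHom σ) p := by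
  have hy : y ^ p = 1 := hord ▸ pow_orderOf_eq_one y
  obtain ⟨g₀, hl⟩ := D.exists_lift_of_mem (mem_CZ.mpr hyz)
  have hfr : cls (g₀ • eight none) = cls (eight none) := by
    have h1 := hrep.conj hl
    rw [hys, mul_inv_cancel_right] at h1
    exact h1.unique hrep
  obtain ⟨τ, c, hτ, hc, rfl⟩ := mono_of_fix_frame hfr
  set a : Spor.Co1 := QuotientGroup.mk (mono 1 c (one_mem _) hc) with hadef
  set t : Spor.Co1 := H56M.permHom ⟨τ, hτ⟩ with htdef
  have ha : a ∈ sgn.range := sgn_range_mem hc
  have ht : t ∈ sgn.range ⊔ H56M.permHom.range := Subgroup.mem_sup_right ⟨_, rfl⟩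
  have hat : (QuotientGroup.mk (mono τ c hτ hc) : Spor.Co1) = a * t := by
    rw [hadef, htdef]
    show _ = QuotientGroup.mk (_ * _)
    congr 1
    refine co0_ext fun v => Subtype.ext ?_
    rw [mul_smul, mono_smul, mono_smul, mono_smul, signedPerm_comp]
    simp [symmDiff_def]
  have hlp : ∀ i : ℕ, D.Lift (y ^ i) (mono τ c hτ hc ^ i) := fun i => by
    induction i with
    | zero => simpa using D.lift_one_iff.mpr (one_mem _)
    | succ i ih => rw [pow_succ, pow_succ]; exact ih.mul hl
  have hpow : (a * t) ^ p = 1 := by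
    rw [← hat, ← QuotientGroup.mk_pow]
    have h1 := hlp p
    rw [hy] at h1
    rcases (D.lift_one_iff.mpr (one_mem _)).unique h1 with e | e <;> rw [e]
    · rfl
    · exact (QuotientGroup.eq_one_iff _).mpr (by simpa using negOne_mem_center)
  have htp : t ^ p = 1 := by
    have h1 := sgn_pow_coset ha ht p
    rw [hpow, one_mul, inv_mem_iff] at h1
    have h2 : t ^ p ∈ sgn.range ⊓ H56M.permHom.range := ⟨h1, ⟨_, map_pow _ _ _⟩⟩
    rwa [sgn_inf_perm, Subgroup.mem_bot] at h2
  have hσp : (⟨τ, hτ⟩ : M24) ^ p = 1 := permHom_injective (by rw [map_pow, map_one]; exact htp)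
  have hσ1 : (⟨τ, hτ⟩ : M24) ≠ 1 := by
    intro h
    have ht1 : t = 1 := by rw [htdef, h, map_one]
    rw [ht1, mul_one] at hat hpow
    have ha1 : a = 1 := by
      obtain ⟨k, rfl⟩ := hodd
      rwa [pow_succ, pow_mul, sq, sgn_sq ha, one_pow, one_mul] at hpow
    rw [ha1] at hat
    have h1 : y ∈ QG Q := D.mem_QG_of_scalar hl
      (H95.center_cases ((QuotientGroup.eq_one_iff _).mp hat))
    have := Setup.eq_one_of_odd_pow D hodd h1 hy
    rw [this, orderOf_one] at hord
    exact hp.ne_one hord.symm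
  have hσord : orderOf (⟨τ, hτ⟩ : M24) = p := by
    have := Fact.mk hp
    exact orderOf_eq_prime hσp hσ1
  obtain ⟨b, hb, hbe⟩ := exists_conj_of_odd hodd (fun x hx => sgn_sq hx)
    (fun x hx => sgn_normal ht hx) ha htp hpow
  obtain ⟨b', hb', hbfix⟩ : ∃ b' : Co0, (QuotientGroup.mk b' : Spor.Co1) = b ∧
      cls (b' • eight none) = cls (eight none) := by
    obtain ⟨w, rfl⟩ := hb
    exact ⟨_, rfl, fix_frame_mono (one_mem _) (H56M.supp_mem w)⟩
  refine ⟨D.twist b'⁻¹, ⟨τ, hτ⟩, hσord, ⟨hp, hodd, hord, ?_, ?_, hys, ?_, hconj, hne⟩⟩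
  · rw [lift_twist]
    obtain ⟨hh, he⟩ := hl
    refine ⟨hh, ?_⟩
    rw [← he, hat, QuotientGroup.mk_mul, QuotientGroup.mk_mul, inv_inv, QuotientGroup.mk_inv, hb',
      show (QuotientGroup.mk (H95.permHom ⟨τ, hτ⟩) : Spor.Co1) = t from rfl]
    have e : b⁻¹ * (b * (a * t) * b⁻¹) * b = a * t := by group
    rw [hbe] at e
    rw [← e]
  · rw [← map_pow, hσp, map_one]
  · rw [Data.rep_twist]
    exact hrep.congr (inv_mem_fix hbfix).symm

/-- conjugating the permutation -/
theorem Setup.twist_perm {D : Data z Q} {s y : G} {p : ℕ} {σ τ σ₀ : M24}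
    (S : Setup D s y (H95.permHom σ) p) (h : τ * σ₀ * τ⁻¹ = σ) :
    Setup (D.twist (H95.permHom τ)) s y (H95.permHom σ₀) p := by
  refine ⟨S.prime, S.odd, S.ord, ?_, ?_, S.comm, ?_, S.conj, S.ne⟩
  · rw [lift_twist, ← map_inv, ← map_mul, ← map_mul, h]
    exact S.lift
  · have h1 := S.gord
    rw [← h, map_mul, map_mul, map_inv, conj_pow] at h1
    have := congrArg (fun x => (H95.permHom τ)⁻¹ * x * H95.permHom τ) h1
    simpa [mul_assoc] using this
  · rw [Data.rep_twist]
    exact S.rep.congr (frame_permHom τ).symm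

/-- the odd part of the order of `C(z, s)` divides the order of `M24` -/
theorem odd_dvd_card [Finite G] {D : Data z Q} {s : G} (hrep : D.Rep s (eight none)) {q n : ℕ}
    (hq : q.Prime) (hq2 : q ≠ 2)
    (h : q ^ n ∣ Nat.card (Subgroup.centralizer ({z, s} : Set G))) : q ^ n ∣ Nat.card M24 := by
  classical
  have := Fact.mk hq
  set L := Subgroup.centralizer ({z, s} : Set G) with hL
  obtain ⟨S, hS⟩ := Sylow.exists_subgroup_card_pow_prime q h
  have hLz : L ≤ CZ z := fun x hx => mem_CZ.mpr (mem_L.mp hx).1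
  let φ : L →* Spor.Co1 := (D.e.toMonoidHom.comp (QuotientGroup.mk' Q)).comp (Subgroup.inclusion hLz)
  set N := sgn.range ⊔ H56M.permHom.range with hN
  have hrange : ∀ x : L, φ x ∈ N := by
    intro x
    obtain ⟨a, ha⟩ := D.exists_lift_of_mem (hLz x.2)
    have h1 := hrep.conj ha
    rw [(mem_L.mp x.2).2, mul_inv_cancel_right] at h1
    obtain ⟨hh, he⟩ := ha
    show D.e (QuotientGroup.mk ⟨(x : G), hh⟩) ∈ N
    rw [← he]
    exact stab_iff.mp (h1.unique hrep)
  have hodd : Odd q := hq.odd_of_ne_two hq2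
  have hinj : Function.Injective (φ.comp S.subtype) := by
    rw [injective_iff_map_eq_one]
    intro x hx
    have h1 : ((x : L) : G) ∈ QG Q := by
      have : D.Lift ((x : L) : G) 1 := ⟨hLz (x : L).2, by
        rw [QuotientGroup.mk_one]; exact hx.symm⟩
      exact D.lift_one_iff.mp this
    have h2 : ((x : L) : G) ^ q ^ n = 1 := by
      have h3 := pow_card_eq_one' (x := x)
      rw [hS] at h3
      exact congrArg (fun w : S => ((w : L) : G)) h3
    exact Subtype.ext (Subtype.ext (Setup.eq_one_of_odd_pow D hodd.pow h1 h2))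
  let A : Subgroup N := sgn.range.subgroupOf N
  have hAn : A.Normal := ⟨fun x hx c => by
    rw [Subgroup.mem_subgroupOf] at hx ⊢
    exact sgn_normal c.2 hx⟩
  let π : M24 →* N ⧸ A := (QuotientGroup.mk' A).comp
    (H56M.permHom.codRestrict N fun σ => Subgroup.mem_sup_right ⟨σ, rfl⟩)
  have hπ : Function.Surjective π := by
    intro c
    obtain ⟨⟨x, hx⟩, rfl⟩ := QuotientGroup.mk'_surjective A c
    have hnorm : H56M.permHom.range ≤ Subgroup.normalizer (sgn.range : Set Spor.Co1) := by
      intro p hp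
      rw [Subgroup.mem_normalizer_iff]
      intro a
      refine ⟨fun ha => sgn_normal (Subgroup.mem_sup_right hp) ha, fun ha => ?_⟩
      have := sgn_normal (Subgroup.mem_sup_right (inv_mem hp)) ha
      simpa [mul_assoc] using this
    obtain ⟨a, ha, p, hp, rfl⟩ : x ∈ (sgn.range : Set Spor.Co1) * (H56M.permHom.range : Set Spor.Co1) := by
      rw [← Subgroup.coe_mul_of_right_le_normalizer_left _ _ hnorm]
      exact hx
    obtain ⟨σ, rfl⟩ := hp
    refine ⟨σ, QuotientGroup.eq.mpr ?_⟩
    rw [Subgroup.mem_subgroupOf]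
    show (H56M.permHom σ)⁻¹ * (a * H56M.permHom σ) ∈ sgn.range
    have := sgn_normal (inv_mem (Subgroup.mem_sup_right ⟨σ, rfl⟩ : H56M.permHom σ ∈ N)) ha
    rwa [inv_inv, mul_assoc] at this
  have hcA : Nat.card A = 2 ^ 11 := by
    rw [← card_sgn_range]
    exact Nat.card_congr (Subgroup.subgroupOfEquivOfLe le_sup_left).toEquiv
  have hdvd : q ^ n ∣ 2 ^ 11 * Nat.card M24 := by
    have h1 : q ^ n ∣ Nat.card N := by
      have hcod : ∀ x : S, (φ.comp S.subtype) x ∈ N := fun x => hrange x
      rw [← hS, Nat.card_congr (MonoidHom.ofInjective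
        (f := ((φ.comp S.subtype)).codRestrict N hcod)
        (fun a b hab => hinj (congrArg Subtype.val hab))).toEquiv]
      exact Subgroup.card_subgroup_dvd_card _
    refine h1.trans ?_
    rw [← A.card_mul_index, hcA]
    exact mul_dvd_mul_left _ (Subgroup.card_dvd_of_surjective π hπ)
  exact (Nat.Coprime.dvd_of_dvd_mul_left
    (Nat.Coprime.pow _ _ ((Nat.coprime_primes hq Nat.prime_two).mpr hq2)) hdvd)

/-- the centraliser of `y` in `C(z, s)` covers the centraliser of the permutation -/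
theorem Setup.dvd_card_cent [Finite G] {D : Data z Q} {s y : G} {p : ℕ} {σ : M24}
    (S : Setup D s y (H95.permHom σ) p) :
    Nat.card (Subgroup.centralizer ({σ} : Set M24)) ∣
      Nat.card (Subgroup.centralizer ({z, s} : Set G) ⊓ Subgroup.centralizer ({y} : Set G) :
        Subgroup G) := by
  classical
  set W := Subgroup.centralizer ({z, s} : Set G) ⊓ Subgroup.centralizer ({y} : Set G) with hW
  have hWz : W ≤ CZ z := fun x hx => mem_CZ.mpr (mem_L.mp hx.1).1
  let φ : W →* Spor.Co1 := (D.e.toMonoidHom.comp (QuotientGroup.mk' Q)).comp (Subgroup.inclusion hWz)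
  set K := (Subgroup.centralizer ({σ} : Set M24)).map H56M.permHom with hK
  have hle : K ≤ φ.range := by
    rintro _ ⟨k, hk, rfl⟩
    have hc : H95.permHom k * H95.permHom σ = H95.permHom σ * H95.permHom k := by
      rw [← map_mul, ← map_mul, Subgroup.mem_centralizer_singleton_iff.mp hk]
    obtain ⟨h, ⟨hh, he⟩, hhy, hhs⟩ := S.exists_lift_comm_fix hc (frame_permHom k)
    refine ⟨⟨h, mem_L.mpr ⟨mem_CZ.mp hh, hhs⟩, Subgroup.mem_centralizer_singleton_iff.mpr hhy⟩,
      ?_⟩
    show D.e (QuotientGroup.mk ⟨h, hh⟩) = _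
    rw [← he]
    rfl
  rw [Nat.card_congr (Subgroup.equivMapOfInjective (Subgroup.centralizer ({σ} : Set M24))
    H56M.permHom permHom_injective).toEquiv]
  exact (Subgroup.card_dvd_of_le hle).trans (Subgroup.card_range_dvd φ)

end H12.Monster
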